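import Mathlib
import Groth.Prelude.Def_Pi1

/-!
# Schemes flat over an integral scheme which are integral over a nonempty open
-/

set_option autoImplicit false
set_option backward.isDefEq.respectTransparency false
set_option linter.style.haveILetI false
set_option maxHeartbeats 1000000

universe u

open CategoryTheory CategoryTheory.Limits AlgebraicGeometry TopologicalSpace

noncomputable section

namespace Groth.Agent.RatCplLib

/-- A scheme flat over an integral scheme is integral if the preimage of a nonempty open is. -/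
theorem isIntegral_of_flat {Z X : Scheme.{u}} [IsIntegral X] (g : Z ⟶ X) [Flat g] (O : X.Opens)
    (hO : (O : Set X).Nonempty) [IsIntegral ((g ⁻¹ᵁ O : Z.Opens) : Scheme.{u})] : IsIntegral Z := by
  set D := g ⁻¹ᵁ O with hD
  have hη : genericPoint X ∈ O := (genericPoint_specializes hO.some).mem_open O.2 hO.some_mem
  have key : ∀ (W : X.Opens), IsAffineOpen W → ∀ U : Z.Opens, IsAffineOpen U → U ≤ g ⁻¹ᵁ W → (U : Set Z).Nonempty →
      IsDomain Γ(Z, U) ∧ ((U ⊓ D : Z.Opens) : Set Z).Nonempty := by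
    intro W hW U hU hUW hne
    obtain ⟨z, hz⟩ := hne
    haveI : Nonempty W := ⟨⟨g z, hUW hz⟩⟩
    haveI : IsDomain Γ(X, W) := IsIntegral.component_integral (X := X) W
    have hηW : genericPoint X ∈ W := (genericPoint_specializes (g z)).mem_open W.2 (hUW hz)
    obtain ⟨t, htO, htη⟩ := hW.exists_basicOpen_le (V := O) ⟨genericPoint X, hη⟩ hηW
    have ht : t ≠ 0 := by
      rintro rfl
      rw [Scheme.basicOpen_zero] at htη
      exact htη
    let φ : Γ(X, W) ⟶ Γ(Z, U) := g.appLE W U hUW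
    have hφ : φ.hom.Flat := g.flat_appLE hW hU hUW
    have hbo : Z.basicOpen (φ t) = U ⊓ g ⁻¹ᵁ (X.basicOpen t) := Scheme.basicOpen_appLE g U W hUW t
    have hbD : Z.basicOpen (φ t) ≤ U ⊓ D := hbo.le.trans (inf_le_inf_left _ (g.preimage_mono htO))
    haveI : Nonempty U := ⟨⟨z, hz⟩⟩
    haveI : Nontrivial Γ(Z, U) := inferInstance
    have hl : IsLocalization.Away (φ t) Γ(Z, Z.basicOpen (φ t)) := hU.isLocalization_basicOpen (φ t)
    have hnzd : ∀ a : Γ(Z, U), φ t * a = 0 → a = 0 := fun a h => by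
      algebraize [φ.hom]
      haveI : Module.IsTorsionFree Γ(X, W) Γ(Z, U) := inferInstance
      have h2 : t • a = t • (0 : Γ(Z, U)) := by rw [smul_zero, Algebra.smul_def]; exact h
      exact smul_right_injective Γ(Z, U) ht h2
    have hinj : Function.Injective (algebraMap Γ(Z, U) Γ(Z, Z.basicOpen (φ t))) := by
      refine IsLocalization.injective (M := Submonoid.powers (φ t)) _ ?_
      rintro _ ⟨n, rfl⟩
      refine mem_nonZeroDivisors_iff_right.mpr fun a ha => ?_
      induction n generalizing a with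
      | zero => dsimp only at ha; rwa [pow_zero, mul_one] at ha
      | succ n ih =>
        refine ih a (hnzd _ ?_)
        dsimp only at ha ⊢
        rw [← ha, pow_succ, mul_comm (φ t), mul_assoc]
    haveI : Nontrivial Γ(Z, Z.basicOpen (φ t)) := hinj.nontrivial
    have hne' : ((Z.basicOpen (φ t) : Z.Opens) : Set Z).Nonempty := by
      by_contra h
      have h0 : Z.basicOpen (φ t) = ⊥ := by
        ext1; exact Set.not_nonempty_iff_eq_empty.mp h
      haveI : Subsingleton Γ(Z, Z.basicOpen (φ t)) := by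
        rw [h0]
        exact CommRingCat.subsingleton_of_isTerminal Z.sheaf.isTerminalOfEmpty
      exact false_of_nontrivial_of_subsingleton Γ(Z, Z.basicOpen (φ t))
    refine ⟨?_, hne'.mono hbD⟩
    haveI : IsDomain Γ(Z, Z.basicOpen (φ t)) := by
      have hle : Z.basicOpen (φ t) ≤ D := hbD.trans inf_le_right
      have h1 : D.ι ''ᵁ (D.ι ⁻¹ᵁ Z.basicOpen (φ t)) = Z.basicOpen (φ t) := by
        rw [Scheme.Hom.image_preimage_eq_opensRange_inf, Scheme.Opens.opensRange_ι, inf_eq_right]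
        exact hle
      haveI : Nonempty (D.ι ⁻¹ᵁ Z.basicOpen (φ t) : (D : Scheme.{u}).Opens) := by
        obtain ⟨w, hw⟩ := hne'
        exact ⟨⟨⟨w, hle hw⟩, hw⟩⟩
      have h2 := IsIntegral.component_integral (X := (D : Scheme.{u})) (D.ι ⁻¹ᵁ Z.basicOpen (φ t))
      exact h1 ▸ (MulEquiv.isDomain Γ((D : Scheme.{u}), D.ι ⁻¹ᵁ Z.basicOpen (φ t))
        ((D.ι.appIso _).commRingCatIsoToRingEquiv.toMulEquiv))
    exact hinj.isDomain _
  have hcov : ∀ (O' : Z.Opens) (z : Z), z ∈ O' → ∃ (W : X.Opens) (U : Z.Opens), IsAffineOpen W ∧ IsAffineOpen U ∧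
      z ∈ U ∧ U ≤ g ⁻¹ᵁ W ∧ U ≤ O' := fun O' z hz => by
    obtain ⟨_, ⟨W : X.Opens, hW : IsAffineOpen W, rfl⟩, hzW, -⟩ :=
      X.isBasis_affineOpens.exists_subset_of_mem_open (Set.mem_univ (g z)) isOpen_univ
    obtain ⟨_, ⟨U : Z.Opens, hU : IsAffineOpen U, rfl⟩, hzU, hUW⟩ :=
      Z.isBasis_affineOpens.exists_subset_of_mem_open (show z ∈ (O' ⊓ g ⁻¹ᵁ W : Z.Opens) from ⟨hz, hzW⟩)
        (O' ⊓ g ⁻¹ᵁ W).2
    exact ⟨W, U, hW, hU, hzU, fun w hw => (hUW hw).2, fun w hw => (hUW hw).1⟩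
  haveI : ∀ z : Z, _root_.IsReduced (Z.presheaf.stalk z) := fun z => by
    obtain ⟨W, U, hW, hU, hzU, hUW, -⟩ := hcov ⊤ z trivial
    haveI := (key W hW U hU hUW ⟨z, hzU⟩).1
    letI := TopCat.Presheaf.algebra_section_stalk Z.presheaf (⟨z, hzU⟩ : U)
    haveI := hU.isLocalization_stalk ⟨z, hzU⟩
    exact isReduced_localizationPreserves (hU.primeIdealOf ⟨z, hzU⟩).asIdeal.primeCompl (Z.presheaf.stalk z) inferInstance
  haveI : IsReduced Z := isReduced_of_isReduced_stalk Z
  haveI : Nonempty Z := ⟨(Classical.arbitrary (D : Scheme.{u})).1⟩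
  have hdense : Dense (D : Set Z) := dense_iff_inter_open.mpr fun O' hO' ⟨z, hz⟩ => by
    obtain ⟨W, U, hW, hU, hzU, hUW, hUO⟩ := hcov ⟨O', hO'⟩ z hz
    obtain ⟨w, hw1, hw2⟩ := (key W hW U hU hUW ⟨z, hzU⟩).2
    exact ⟨w, hUO hw1, hw2⟩
  haveI : IrreducibleSpace Z := by
    have h1 : IsIrreducible (D : Set Z) := by
      have h2 := (IrreducibleSpace.isIrreducible_univ (D : Scheme.{u})).image D.ι D.ι.continuous.continuousOn
      rwa [Set.image_univ, Scheme.Opens.range_ι] at h2
    have h3 := h1.closure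
    rw [hdense.closure_eq] at h3
    exact irreducibleSpace_def Z |>.mpr h3
  exact isIntegral_of_irreducibleSpace_of_isReduced Z

end Groth.Agent.RatCplLib
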