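import Groth.Agent.RatCplLib.Integral
import Groth.Agent.S1274
import Groth.Agent.S7304
import Groth.Agent.S7303
import Groth.Agent.S11790
import Groth.Agent.ModifDimLib.Main
import Groth.Agent.ModPairLib.Pair
import Groth.Agent.SurfPtBlow.Push
import Groth.Agent.FibreVanishQC.BaseChange
import Groth.Agent.RegLocal.Completion

/-!
# Rational singularities and completion
-/

set_option autoImplicit false
set_option backward.isDefEq.respectTransparency false
set_option linter.style.haveILetI false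
set_option maxHeartbeats 800000

universe u

open CategoryTheory CategoryTheory.Limits AlgebraicGeometry TopologicalSpace

noncomputable section

namespace Groth.Agent.RatCplLib

/-- A proper scheme over a Nagata domain, isomorphic over a nonempty open, receives a normal integral one. -/
theorem exists_normal_over {A : Type u} [CommRing A] [IsDomain A] [IsNoetherianRing A] (hN : CAlg.IsNagata A)
    {X : Scheme.{u}} (f : X ⟶ Spec (CommRingCat.of A)) [IsProper f] (U : (Spec (CommRingCat.of A)).Opens)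
    (hU : (U : Set (Spec (CommRingCat.of A))).Nonempty) [IsIso (f ∣_ U)] :
    ∃ (X' : Scheme.{u}) (π : X' ⟶ X), IsProper π ∧ IsIntegral X' ∧ Pi1.IsNormalScheme X' ∧
      ∃ V : (Spec (CommRingCat.of A)).Opens, (V : Set (Spec (CommRingCat.of A))).Nonempty ∧
        IsIso ((π ≫ f) ∣_ V) := by
  let B := Spec (CommRingCat.of A)
  haveI : IsNoetherian B := inferInstanceAs (IsNoetherian (Spec (CommRingCat.of A)))
  haveI : IsIntegral B := inferInstanceAs (IsIntegral (Spec (CommRingCat.of A)))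
  haveI : Nonempty (U : Scheme.{u}) := hU.to_subtype
  haveI : IsIntegral (U : Scheme.{u}) := isIntegral_of_isOpenImmersion U.ι
  let t : (U : Scheme.{u}) ⟶ X := inv (f ∣_ U) ≫ (f ⁻¹ᵁ U).ι
  have ht : t ≫ f = U.ι := by
    simp only [t, Category.assoc, ← morphismRestrict_ι, IsIso.inv_hom_id_assoc]
  haveI : CompactSpace (U : Scheme.{u}) := isCompact_iff_compactSpace.1 (TopologicalSpace.NoetherianSpace.isCompact (U : Set B))
  haveI : QuasiSeparatedSpace X := quasiSeparatedSpace_of_quasiSeparated f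
  haveI : QuasiCompact t := quasiCompact_of_compactSpace t
  haveI : IsIso ((t.imageι ≫ f) ∣_ U) := RGBlowLib.isIso_image_restrict f U t ht
  haveI : IsIntegral t.image := ProperFin.isIntegral_image t
  let π : t.image ⟶ B := t.imageι ≫ f
  haveI : IsProper π := inferInstanceAs (IsProper (t.imageι ≫ f))
  haveI : IsIso (π ∣_ U) := inferInstanceAs (IsIso ((t.imageι ≫ f) ∣_ U))
  haveI : IsNoetherian t.image := RGBlowLib.Union.isNoetherian_of_ft π
  haveI : QuasiCompact (t.image.fromSpecStalk (genericPoint t.image)) := quasiCompact_of_compactSpace _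
  haveI : QuasiSeparated (t.image.fromSpecStalk (genericPoint t.image)) := inferInstance
  have hZ : ∀ V : t.image.affineOpens, CAlg.IsNagata Γ(t.image, V.1) := S7359.isNagata_of_lft π fun W => by
      refine S9833.result B (fun _ : PUnit.{u + 1} => ⊤) iSup_const (fun _ => isAffineOpen_top _) (fun _ => ?_) W.1 W.2
      exact NagataLib.isNagata_of_surjective (Scheme.ΓSpecIso (CommRingCat.of A)).inv.hom
        (Scheme.ΓSpecIso (CommRingCat.of A)).symm.commRingCatIsoToRingEquiv.surjective hN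
  haveI : IsFinite (Curv2.normalizationι t.image) := S9688.result t.image fun V hV hne => by
    haveI : Nonempty (V : Scheme.{u}) := hne
    haveI := IsIntegral.component_integral (X := t.image) V
    obtain ⟨hnoeth, hN2⟩ := hZ ⟨V, hV⟩
    exact NagataCompleteLib.isN2_of_ringEquiv (RingEquiv.quotientBot Γ(t.image, V)) (hN2 ⊥)
  obtain ⟨hint, hnorm, -, -⟩ := S2351.result t.image
  obtain ⟨W, hW, hWiso⟩ := BMCohLib.exists_isIso_normalization (Z := t.image)
  haveI := hWiso
  let V₀ : (U : Scheme.{u}).Opens := inv (π ∣_ U) ⁻¹ᵁ ((π ⁻¹ᵁ U).ι ⁻¹ᵁ W)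
  let V : B.Opens := U.ι ''ᵁ V₀
  have hVW : π ⁻¹ᵁ V ≤ W := fun z hz => by
    obtain ⟨u, hu, hzu⟩ := hz
    have hzU : z ∈ π ⁻¹ᵁ U := by
      show π z ∈ U
      rw [← hzu]
      exact u.2
    have e : inv (π ∣_ U) u = ⟨z, hzU⟩ := by
      apply (π ∣_ U).isOpenEmbedding.injective
      rw [← Scheme.Hom.comp_apply, IsIso.inv_hom_id]
      exact Subtype.ext (hzu.trans (morphismRestrict_base_coe π U ⟨z, hzU⟩).symm)
    have := show (π ⁻¹ᵁ U).ι (inv (π ∣_ U) u) ∈ W from hu
    rw [e] at this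
    exact this
  have hVne : (V : Set B).Nonempty := by
    obtain ⟨z, hzW, hzU⟩ : ((W : Set t.image) ∩ (π ⁻¹ᵁ U : Set t.image)).Nonempty := by
      refine nonempty_preirreducible_inter W.2 (π ⁻¹ᵁ U).2 ⟨_, hW⟩ ?_
      obtain ⟨⟨u, hu⟩⟩ := (inferInstance : Nonempty (U : Scheme.{u}))
      exact ⟨_, (inv (π ∣_ U) ⟨u, hu⟩).2⟩
    refine ⟨_, (π ∣_ U) ⟨z, hzU⟩, ?_, rfl⟩
    show (π ⁻¹ᵁ U).ι (inv (π ∣_ U) ((π ∣_ U) ⟨z, hzU⟩)) ∈ W
    rw [← Scheme.Hom.comp_apply (π ∣_ U), IsIso.hom_inv_id]
    exact hzW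
  refine ⟨Curv2.normalization t.image, Curv2.normalizationι t.image ≫ t.imageι,
    MorphismProperty.comp_mem (W := @IsProper) _ _ inferInstance inferInstance, hint, hnorm, V, hVne, ?_⟩
  haveI : IsIso (π ∣_ V) := (MorphismProperty.arrow_mk_iso_iff (MorphismProperty.isomorphisms Scheme.{u})
      (morphismRestrictRestrict π U V₀)).1 (inferInstanceAs (IsIso (π ∣_ U ∣_ V₀)))
  haveI : IsIso (Curv2.normalizationι t.image ∣_ (π ⁻¹ᵁ V)) := BMCohLib.isIso_restrict_le _ hVW
  rw [Category.assoc, morphismRestrict_comp]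
  exact inferInstanceAs (IsIso ((Curv2.normalizationι t.image ∣_ (π ⁻¹ᵁ V)) ≫ (π ∣_ V)))

/-- Vanishing of `H¹(O)` passes down along a proper birational morphism onto a normal scheme. -/
theorem subsingleton_H1_of_birational {X X' : Scheme.{u}} [IsIntegral X] [IsIntegral X'] (hn : Pi1.IsNormalScheme X)
    (h : X' ⟶ X) [IsProper h] (hbir : ∃ V : X.Opens, (V : Set X).Nonempty ∧ IsIso (h ∣_ V))
    (hH : Subsingleton (Coh.HH X' (Coh.structureModule X') 1)) :
    Subsingleton (Coh.HH X (Coh.structureModule X) 1) := by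
  haveI := hH
  haveI := SurfPtBlow.isIso_unitToPush h hbir fun z => (hn z).2
  let u := (SheafOfModules.toSheaf X.ringCatSheaf).map (ClSub.unitToPush h)
  have hs : Subsingleton (Sheaf.H ((CohTop.push h.base).obj (Coh.toAb (Coh.structureModule X'))) 1) :=
    (SurfPtBlow.injective_edgeH_one h.base (Coh.toAb (Coh.structureModule X'))).subsingleton
  have hinj : Function.Injective (Sheaf.H.map u 1) := fun a b e => by
    have e' := congrArg (Sheaf.H.map (inv u) 1) e
    rwa [← Sheaf.H.map_comp_apply, ← Sheaf.H.map_comp_apply,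
      show Sheaf.H.map (u ≫ inv u) 1 = Sheaf.H.map (𝟙 _) 1 from congrArg (fun k => Sheaf.H.map k 1) (IsIso.hom_inv_id u),
      Sheaf.H.map_id_apply, Sheaf.H.map_id_apply] at e'
  exact @Function.Injective.subsingleton _ _ (Sheaf.H.map u 1) hinj hs

/-- A proper birational morphism to a normal local surface is an isomorphism off the closed point. -/
theorem isIso_over_punctured {R : Type u} [CommRing R] [IsDomain R] [IsLocalRing R] [IsNoetherianRing R]
    [IsIntegrallyClosed R] (hdim : ringKrullDim R = 2) {Y : Scheme.{u}} (f : Y ⟶ Spec (CommRingCat.of R)) [IsProper f]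
    [IsIntegral Y]
    (hbir : ∃ U : (Spec (CommRingCat.of R)).Opens, (U : Set (Spec (CommRingCat.of R))).Nonempty ∧ IsIso (f ∣_ U)) :
    IsIso (f ∣_ FEt.puncturedSpec R) := by
  haveI : IsDomain (CommRingCat.of R) := inferInstanceAs (IsDomain R)
  haveI : IsNoetherianRing (CommRingCat.of R) := inferInstanceAs (IsNoetherianRing R)
  obtain ⟨U, hU, hUi⟩ := hbir
  obtain ⟨hgen, hst⟩ := BirQFLib.birational_of_isIso_restrict f U hU hUi
  obtain ⟨V, hV, hmax⟩ := BirQFLib.exists_isIso_sSup f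
  haveI := hV
  refine BMCohLib.isIso_restrict_le f (U := V) fun y hy => ?_
  have hy1 : ringKrullDim ((Spec (CommRingCat.of R)).presheaf.stalk y) ≤ 1 := by
    letI : Algebra R ((Spec (CommRingCat.of R)).presheaf.stalk y) := StructureSheaf.stalkAlgebra R y
    haveI : IsLocalization.AtPrime ((Spec (CommRingCat.of R)).presheaf.stalk y) y.asIdeal :=
      StructureSheaf.IsLocalization.to_stalk R y
    rw [IsLocalization.AtPrime.ringKrullDim_eq_height y.asIdeal]
    have hne : y.asIdeal ≠ IsLocalRing.maximalIdeal R := fun h => hy (PrimeSpectrum.ext h)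
    have hlt : y.asIdeal < IsLocalRing.maximalIdeal R :=
      lt_of_le_of_ne (IsLocalRing.le_maximalIdeal y.isPrime.ne_top) hne
    have hm : (IsLocalRing.maximalIdeal R).height = 2 := by
      have := (IsLocalRing.maximalIdeal_height_eq_ringKrullDim (R := R)).trans hdim
      exact WithBot.coe_inj.1 this
    have h2 := Ideal.height_strict_mono_of_isPrime_of_isPrime hlt
    rw [hm, show (2 : ℕ∞) = 1 + 1 from rfl, ENat.lt_add_one_iff (by simp)] at h2
    exact_mod_cast h2
  obtain ⟨W, hyW, hWi⟩ :=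
    BirQFLib.exists_nhd_isIso_of_dim_le_one (S7303.isNormalScheme_Spec R) f hgen hst y hy1
  exact hmax W hWi hyW

/-- A rational singularity stays one after completion. -/
theorem isRationalSing_completion (A : Type u) [CommRing A] [IsDomain A] [IsLocalRing A] [IsNoetherianRing A]
    (hN : CAlg.IsNagata A) (hdim : ringKrullDim A = 2) (hA : Curv2.IsRationalSing A)
    [IsDomain (Curv2.cpl A)] [IsIntegrallyClosed (Curv2.cpl A)] : Curv2.IsRationalSing (Curv2.cpl A) := by
  have hI : IsLocalRing.maximalIdeal A ≠ ⊤ := (IsLocalRing.maximalIdeal.isMaximal A).ne_top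
  haveI : IsNoetherianRing (Curv2.cpl A) := RegLocal.isNoetherianRing_completion A _
  haveI : IsLocalRing (Curv2.cpl A) := RegLocal.isLocalRing_completion A _ hI
  haveI : Module.FaithfullyFlat A (Curv2.cpl A) := RegLocal.faithfullyFlat_completion A _ hI
  haveI : IsDomain (CommRingCat.of A) := inferInstanceAs (IsDomain A)
  haveI : IsNoetherianRing (CommRingCat.of A) := inferInstanceAs (IsNoetherianRing A)
  haveI : IsDomain (CommRingCat.of (Curv2.cpl A)) := inferInstanceAs (IsDomain (Curv2.cpl A))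
  haveI : IsNoetherianRing (CommRingCat.of (Curv2.cpl A)) := inferInstanceAs (IsNoetherianRing (Curv2.cpl A))
  have hdim' : ringKrullDim (Curv2.cpl A) = 2 := (RegLocal.ringKrullDim_completion A _ hI).trans hdim
  intro Y f hf hYi hYn hbir
  haveI := hf
  haveI := hYi
  haveI := isIso_over_punctured hdim' f hbir
  obtain ⟨J, Y', c, hc, hJ, h₀, hh₀⟩ := S1274.result f (FEt.puncturedSpec (Curv2.cpl A))
    (TopologicalSpace.NoetherianSpace.isCompact _)
  obtain ⟨I, X, b, hIadm, hb, e, he⟩ := S7304.result A Y' c J hJ hc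
  haveI : IsProper b := RGBlowLib.isProper_blowUp hb hIadm
  haveI := RGBlowLib.Union.isIso_restrict_adm hb _ hIadm
  -- an element of the maximal ideal
  obtain ⟨a₀, ha₀, ha₀0⟩ : ∃ a ∈ IsLocalRing.maximalIdeal A, a ≠ 0 := by
    refine (IsLocalRing.maximalIdeal A).ne_bot_iff.1 fun h => ?_
    have := ringKrullDim_eq_zero_of_isField (IsLocalRing.isField_iff_maximalIdeal_eq.2 h)
    rw [hdim] at this
    exact absurd this (by decide)
  have hpun : (FEt.puncturedSpec A : Set (Spec (CommRingCat.of A))).Nonempty :=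
    ⟨⟨⊥, Ideal.isPrime_bot⟩, fun h => by
      have := congrArg PrimeSpectrum.asIdeal (Set.mem_singleton_iff.1 h)
      exact ha₀0 (Ideal.mem_bot.1 (this.symm.le ha₀))⟩
  obtain ⟨X', π, hπ, hX'i, hX'n, V, hVne, hViso⟩ := exists_normal_over hN b (FEt.puncturedSpec A) hpun
  haveI := hπ
  haveI := hX'i
  haveI := hViso
  let f' : X' ⟶ Spec (CommRingCat.of A) := π ≫ b
  haveI : IsProper f' := inferInstanceAs (IsProper (π ≫ b))
  have hH : Subsingleton (Coh.HH X' (Coh.structureModule X') 1) :=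
    hA X' f' inferInstance hX'i hX'n ⟨V, hVne, hViso⟩
  -- base change to the completion
  let α : Spec (CommRingCat.of (Curv2.cpl A)) ⟶ Spec (CommRingCat.of A) :=
    Spec.map (CommRingCat.ofHom (algebraMap A (Curv2.cpl A)))
  haveI : Flat α := (HasRingHomProperty.Spec_iff (P := @Flat)).2
    (RingHom.flat_algebraMap_iff.2 inferInstance)
  let Z := pullback f' α
  let g : Z ⟶ X' := pullback.fst f' α
  let cZ : Z ⟶ Spec (CommRingCat.of (Curv2.cpl A)) := pullback.snd f' α
  haveI : Flat g := MorphismProperty.pullback_fst _ _ inferInstance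
  haveI : IsProper cZ := MorphismProperty.pullback_snd _ _ inferInstance
  have hS : ∀ y : ↥(Spec (CommRingCat.of A)), ringKrullDim ((Spec (CommRingCat.of A)).presheaf.stalk y) ≤ 2 := fun y =>
    (S1688.dim_le y).trans (le_of_eq ((PrimeSpectrum.topologicalKrullDim_eq_ringKrullDim A).trans hdim))
  have hZH : Subsingleton (Coh.HH Z (Coh.structureModule Z) 1) :=
    FibreVanishQC.subsingleton_HH_baseChange (IsPullback.of_hasPullback f' α) 1
      (ModifDimLib.fibre_dim_le_one f' hS hVne hViso) hH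
  -- a basic open over which everything is an isomorphism
  let η : Spec (CommRingCat.of A) := ⟨⊥, Ideal.isPrime_bot⟩
  have hηV : η ∈ V := ((PrimeSpectrum.le_iff_specializes η hVne.some).mp bot_le).mem_open V.2 hVne.some_mem
  obtain ⟨_, ⟨a₁, rfl⟩, hηa₁, ha₁V⟩ :=
    PrimeSpectrum.isTopologicalBasis_basic_opens.exists_subset_of_mem_open (show η ∈ (V : Set _) from hηV) V.2
  have ha₁0 : a₁ ≠ 0 := fun h => hηa₁ (by simp [h, η])
  let a := a₀ * a₁
  let O : (Spec (CommRingCat.of A)).Opens := PrimeSpectrum.basicOpen a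
  let O' : (Spec (CommRingCat.of (Curv2.cpl A))).Opens := α ⁻¹ᵁ O
  have hOV : O ≤ V := fun y hy => ha₁V fun h => hy (Ideal.mul_mem_left _ a₀ h)
  have ha' : algebraMap A (Curv2.cpl A) a ≠ 0 := fun h =>
    mul_ne_zero ha₀0 ha₁0 (FaithfulSMul.algebraMap_injective A (Curv2.cpl A) (h.trans (map_zero _).symm))
  let η' : Spec (CommRingCat.of (Curv2.cpl A)) := ⟨⊥, Ideal.isPrime_bot⟩
  have hη' : η' ∈ O' := fun h => ha' (Ideal.mem_bot.1 h)
  have hO'pun : O' ≤ FEt.puncturedSpec (Curv2.cpl A) := fun y hy h => by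
    rw [Set.mem_singleton_iff.1 h] at hy
    refine hy (Ideal.mul_mem_right a₁ _ ?_)
    show algebraMap A (Curv2.cpl A) a₀ ∈ IsLocalRing.maximalIdeal (Curv2.cpl A)
    rw [RegLocal.maximalIdeal_completion A _ hI]
    exact Ideal.mem_map_of_mem _ ha₀
  haveI : IsIso (f' ∣_ O) := BMCohLib.isIso_restrict_le _ hOV
  haveI hcO : IsIso (cZ ∣_ O') := ModPairLib.isIso_restrict_baseChange (IsPullback.of_hasPullback f' α) O O' le_rfl
  haveI : IsIntegral ((g ⁻¹ᵁ (f' ⁻¹ᵁ O) : Z.Opens) : Scheme.{u}) := by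
    have e : g ⁻¹ᵁ (f' ⁻¹ᵁ O) = cZ ⁻¹ᵁ O' := by
      simp only [O', ← Scheme.Hom.comp_preimage, g, cZ, pullback.condition]
    rw [e]
    haveI : Nonempty (O' : Scheme.{u}) := ⟨⟨η', hη'⟩⟩
    haveI : Nonempty ((cZ ⁻¹ᵁ O' : Z.Opens) : Scheme.{u}) := ⟨inv (cZ ∣_ O') ⟨η', hη'⟩⟩
    haveI : IsIntegral (O' : Scheme.{u}) := isIntegral_of_isOpenImmersion O'.ι
    exact IsIntegral.of_isIso (inv (cZ ∣_ O'))
  have hOne : ((f' ⁻¹ᵁ O : X'.Opens) : Set X').Nonempty := by
    have hηO : η ∈ O := fun h => mul_ne_zero ha₀0 ha₁0 (Ideal.mem_bot.1 h)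
    exact ⟨_, (inv (f' ∣_ O) ⟨η, hηO⟩).2⟩
  haveI : IsIntegral Z := isIntegral_of_flat g (f' ⁻¹ᵁ O) hOne
  -- the map to the modification
  let p : Z ⟶ Curv2.bcCpl A b :=
    pullback.lift (g ≫ π) cZ (by rw [Category.assoc]; exact pullback.condition)
  let h : Z ⟶ Y := p ≫ e.inv ≫ h₀
  have hhf : h ≫ f = cZ := by
    simp only [h, Category.assoc, hh₀]
    rw [← he, Iso.inv_hom_id_assoc]
    exact pullback.lift_snd _ _ _
  haveI : IsProper h := by
    haveI : IsProper (h ≫ f) := by rw [hhf]; infer_instance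
    exact IsProper.of_comp h f
  haveI : IsIso (f ∣_ O') := BMCohLib.isIso_restrict_le _ hO'pun
  haveI : IsIso (h ∣_ (f ⁻¹ᵁ O')) := by
    haveI h1 : IsIso ((h ≫ f) ∣_ O') := by rw [hhf]; exact hcO
    rw [morphismRestrict_comp] at h1
    haveI := h1
    exact IsIso.of_isIso_comp_right _ (f ∣_ O')
  exact subsingleton_H1_of_birational hYn h
    ⟨f ⁻¹ᵁ O', ⟨_, (inv (f ∣_ O') ⟨η', hη'⟩).2⟩, inferInstance⟩ hZH

end Groth.Agent.RatCplLib
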